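import Groth.Agent.L18.CIProjCoh
import Groth.Agent.L18.CIProjLocal
import Groth.Agent.L22.Reg.Pn
import Groth.Agent.L22.Inter.Fga
import Groth.Agent.L16.ProjSpace.TopCoh

/-!
Top cohomology of the twists of a complete intersection of projective space.
-/

set_option autoImplicit false
set_option backward.isDefEq.respectTransparency false
set_option backward.isDefEq.respectTransparency.types false
set_option linter.style.haveILetI false
universe u

open CategoryTheory CategoryTheory.Limits AlgebraicGeometry TopologicalSpace MvPolynomial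

noncomputable section

namespace Groth.L13.CITwist

open Groth.L18.CIProj Groth.L18.CIProjRing
open Groth.L21.PlaneCurve (OC isInvertible_OC)
open Groth.L00.Tensor (tensorIso tensorComm)
open Groth.L16.CohLinear (hmap delta exact_hmap_delta exact_delta_hmap)
open Groth.L21.RR (twι twπ shortExact_tw)

variable {k : Type u} [Field k] {n : ℕ}

theorem isNoetherian_sub (I : (CohB1.ProjSpace n k).IdealSheafData) : IsNoetherian I.subscheme := by
  haveI : IsLocallyNoetherian I.subscheme := LocallyOfFiniteType.isLocallyNoetherian I.subschemeι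
  haveI : CompactSpace I.subscheme := QuasiCompact.compactSpace_of_compactSpace I.subschemeι
  exact {}

/-- On a subscheme of dimension at most `q`, vanishing of `H^q` propagates to higher twists. -/
theorem subsingleton_succ (I : (CohB1.ProjSpace n k).IdealSheafData) {q : ℕ}
    (hd : topologicalKrullDim ↥I.subscheme ≤ (q : WithBot ℕ∞)) {c : ℤ}
    (h : Subsingleton (Coh.HH I.subscheme (OC I c) q)) :
    Subsingleton (Coh.HH I.subscheme (OC I (c + 1)) q) := by
  haveI := isNoetherian_sub I
  let f := I.subschemeι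
  let F : (CohB1.ProjSpace n k).Modules := (Scheme.Modules.pushforward f).obj (OC I (c + 1))
  have hF : Subsingleton (Coh.HH (CohB1.ProjSpace n k) F q) := by
    refine Groth.L22.Reg.subsingleton_of_twists
      (Groth.L16.ProjTwist.isInvertible_twistProjSpace n k (-1)) Groth.L22.Reg.generates_sigmas fun j => ?_
    obtain ⟨e⟩ := Groth.L22.Reg.nonempty_O_pow (n := n) (R := k) (j + 1)
    obtain ⟨a⟩ := nonempty_pullback_add I (show -((j + 1 : ℕ) : ℤ) + (c + 1) = c - j by omega)
    haveI := Groth.L17.ClosedPush.isIso_θ f (OC I (c + 1)) (Groth.L22.Reg.O' n k (-((j + 1 : ℕ) : ℤ)))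
    let i : CohB1.tensorMod F (CohB1.tensorPow (Groth.L22.Reg.O' n k (-1)) (j + 1)) ≅
        (Scheme.Modules.pushforward f).obj (OC I (c - j)) :=
      tensorIso (Iso.refl F) e ≪≫ tensorComm _ _ ≪≫
        asIso (Groth.L17.ClosedPush.θ f (OC I (c + 1)) (Groth.L22.Reg.O' n k (-((j + 1 : ℕ) : ℤ)))) ≪≫
        (Scheme.Modules.pushforward f).mapIso a
    refine Groth.L22.EnrSev.subsingleton_of_iso i.symm _ ?_
    obtain ⟨b⟩ := Groth.L17.nonempty_HH_push_of_isClosedImmersion f (OC I (c - j)) (q + j)
    haveI : Subsingleton (Coh.HH I.subscheme (OC I (c - j)) (q + j)) := by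
      rcases Nat.eq_zero_or_pos j with rfl | hj
      · simpa using h
      · exact Groth.L22.Inter.subsingleton_HH_of_dim hd _ (by omega)
    exact b.symm.toEquiv.subsingleton
  obtain ⟨b⟩ := Groth.L17.nonempty_HH_push_of_isClosedImmersion f (OC I (c + 1)) q
  exact b.toEquiv.subsingleton

/-- On a subscheme of dimension at most `q`, vanishing of `H^q` propagates to higher twists. -/
theorem subsingleton_mono (I : (CohB1.ProjSpace n k).IdealSheafData) {q : ℕ}
    (hd : topologicalKrullDim ↥I.subscheme ≤ (q : WithBot ℕ∞)) {c c' : ℤ} (hc : c ≤ c')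
    (h : Subsingleton (Coh.HH I.subscheme (OC I c) q)) :
    Subsingleton (Coh.HH I.subscheme (OC I c') q) := by
  induction c', hc using Int.le_induction with
  | base => exact h
  | succ m _ hm => exact subsingleton_succ I hd hm

/-- Top cohomology of the twists of projective space. -/
theorem subsingleton_top_proj (hn : 1 ≤ n) (c : ℤ) :
    Subsingleton (Coh.HH (CohB1.ProjSpace n k) (Twist.twistProjSpace n k c) n) ↔ -((n : ℤ) + 1) < c := by
  refine ⟨fun h => ?_, fun h => ?_⟩
  · by_contra hc
    obtain ⟨j, hj⟩ := Int.eq_ofNat_of_zero_le (show (0 : ℤ) ≤ -((n : ℤ) + 1) - c by omega)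
    obtain rfl : c = -((n : ℤ) + 1 + j) := by omega
    obtain ⟨e⟩ := Groth.L16.ProjSpace.nonempty_HH_top_linearEquiv n j k
    haveI := e.symm.toEquiv.subsingleton
    have h0 : (⟨X 0 ^ j, (mem_homogeneousSubmodule _ _).2 (isHomogeneous_X_pow (R := k) (0 : Fin (n + 1)) j)⟩ :
        homogeneousSubmodule (Fin (n + 1)) k j) = 0 := Subsingleton.elim _ _
    exact pow_ne_zero j (X_ne_zero (0 : Fin (n + 1))) (congrArg Subtype.val h0)
  · exact Groth.L16.ProjSpace.subsingleton_HH_twist n k c n (by omega) (by omega)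

/-- `H^q(O(c))` of a `q`-dimensional complete intersection vanishes exactly for `c > Σ a - n - 1`. -/
theorem subsingleton_top_iff : ∀ (r : ℕ) (a : Fin r → ℕ) (_ : ∀ j, 1 ≤ a j) (G : ∀ j, LefPen.Form n k (a j)),
    IsCI (pols G) → ∀ q : ℕ, 1 ≤ q → q + r = n → ∀ c : ℤ,
    (Subsingleton (Coh.HH (LefPen.ciIdeal G).subscheme (OC (LefPen.ciIdeal G) c) q) ↔
      (∑ j, (a j : ℤ)) - ((n : ℤ) + 1) < c) := by
  intro r
  induction r with
  | zero =>
    intro a _ G _ q hq hqn c
    obtain rfl : q = n := by omega
    have hker : (LefPen.ciIdeal G).subschemeι.ker = Scheme.Hom.ker (𝟙 (CohB1.ProjSpace q k)) := by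
      rw [Scheme.IdealSheafData.ker_subschemeι, Scheme.Hom.ker_eq_bot_of_isIso, LefPen.ciIdeal, iSup_of_empty]
    obtain ⟨e⟩ := nonempty_HH_of_isIso (𝟙 (CohB1.ProjSpace q k)) (Twist.twistProjSpace q k c) q
    rw [Fintype.sum_empty, zero_sub, ← subsingleton_top_proj (k := k) hq c]
    refine ⟨fun h => ?_, fun h => ?_⟩
    · haveI := (transfer (𝟙 _) _ hker.symm (Twist.twistProjSpace q k c)).1 q h
      exact e.symm.toEquiv.subsingleton
    · exact (transfer _ (𝟙 _) hker (Twist.twistProjSpace q k c)).1 q e.toEquiv.subsingleton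
  | succ r ih =>
    intro a ha G hci q hq hqn c
    have hci' : IsCI (pols (init G)) := hci.castSucc (isHomogeneous_pols G) ha
    let I := LefPen.ciIdeal (init G)
    let J := lastIdeal G
    have ihq := ih (fun j => a j.castSucc) (fun j => ha _) (init G) hci' (q + 1) (by omega) (by omega)
    obtain ⟨e⟩ := nonempty_idealMod_lastIdeal G ha hci
    have hI0 : ∀ i, Subsingleton (Coh.HH I.subscheme (OC I i) q) := fun i =>
      (vanishing_surjective r _ (fun j => ha _) (init G) hci').1 i q (by omega) (by omega)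
    have hI1 : ∀ i, Subsingleton (Coh.HH I.subscheme (CohB1.tensorMod (OC I i) (ClSub.idealMod J)) (q + 1)) ↔
        (∑ j : Fin r, (a j.castSucc : ℤ)) - ((n : ℤ) + 1) < i - a (Fin.last r) := by
      intro i
      obtain ⟨f⟩ := nonempty_pullback_add I (show i + -(a (Fin.last r) : ℤ) = i - a (Fin.last r) by omega)
      rw [Groth.L22.Reg.subsingleton_congr_iso (tensorIso (Iso.refl _) e ≪≫ f) (q + 1), ihq]
    have hker : (LefPen.ciIdeal G).subschemeι.ker = (J.subschemeι ≫ I.subschemeι).ker := by
      rw [Scheme.IdealSheafData.ker_subschemeι, ker_step]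
    have hstep : ∀ i, (Subsingleton (Coh.HH (LefPen.ciIdeal G).subscheme (OC (LefPen.ciIdeal G) i) q) ↔
        Subsingleton (Coh.HH I.subscheme (CohB1.tensorMod (OC I i) (ClSub.quotMod J)) q)) := by
      intro i
      obtain ⟨u⟩ := nonempty_quot_iso J (isInvertible_OC I i)
      obtain ⟨v⟩ := Groth.L17.nonempty_HH_push_of_isClosedImmersion J.subschemeι
        ((Scheme.Modules.pullback J.subschemeι).obj (OC I i)) q
      rw [Groth.L22.Reg.subsingleton_congr_iso u q, ← v.toEquiv.subsingleton_congr]
      have w := Groth.L22.Reg.subsingleton_congr_iso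
        ((Scheme.Modules.pullbackComp J.subschemeι I.subschemeι).app (Twist.twistProjSpace n k i)) q
      exact ⟨fun h => w.2 ((transfer (J.subschemeι ≫ I.subschemeι) _ hker.symm (Twist.twistProjSpace n k i)).1 q h),
        fun h => (transfer _ (J.subschemeι ≫ I.subschemeι) hker (Twist.twistProjSpace n k i)).1 q (w.1 h)⟩
    have hsum : (∑ j : Fin (r + 1), (a j : ℤ)) = (∑ j : Fin r, (a j.castSucc : ℤ)) + a (Fin.last r) :=
      Fin.sum_univ_castSucc _
    set s : ℤ := (∑ j, (a j : ℤ)) - ((n : ℤ) + 1) with hs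
    have hpos : ∀ i, s < i → Subsingleton (Coh.HH (LefPen.ciIdeal G).subscheme (OC (LefPen.ciIdeal G) i) q) := by
      intro i hi
      rw [hstep]
      haveI := (hI1 i).2 (by omega)
      haveI := hI0 i
      refine subsingleton_of_forall_eq 0 fun y => ?_
      obtain ⟨z, hz⟩ := (exact_hmap_delta (shortExact_tw J (isInvertible_OC I i)) q y).1
        (Subsingleton.elim _ _)
      rw [← hz, Subsingleton.elim z 0]
      exact map_zero _
    have hneg : ¬ Subsingleton (Coh.HH (LefPen.ciIdeal G).subscheme (OC (LefPen.ciIdeal G) s) q) := by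
      rw [hstep]
      intro h
      have := ha (Fin.last r)
      refine ((hI1 s).not.2 (by omega)) (subsingleton_of_forall_eq 0 fun y => ?_)
      haveI : Subsingleton (Coh.HH I.subscheme (OC I s) (q + 1)) := (ihq s).2 (by omega)
      obtain ⟨z, hz⟩ := (exact_delta_hmap (shortExact_tw J (isInvertible_OC I s)) q y).1
        (Subsingleton.elim _ _)
      rw [← hz, Subsingleton.elim z 0]
      exact map_zero _
    refine ⟨fun h => ?_, hpos c⟩
    by_contra hc
    exact hneg (subsingleton_mono _ ((dim_le_of_isCI ha G hci).trans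
      (le_of_eq (by exact_mod_cast (show n - (r + 1) = q by omega)))) (le_of_not_gt hc) h)

end Groth.L13.CITwist
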